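import Groth.Agent.Lib.FinTestIso3.Main
import Groth.Agent.Lib.HopfPts19.Scheme

/-!
# The criterion for group schemes
-/

set_option autoImplicit false
set_option linter.style.haveILetI false
set_option backward.isDefEq.respectTransparency.types false

universe u

open CategoryTheory MonoidalCategory CartesianMonoidalCategory MonObj AlgebraicGeometry Opposite
open Groth.Agent.TruncPoly23
open scoped TensorProduct

noncomputable section

namespace Groth.Agent.FinTestIso3

variable {k : Type u} [Field k]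

/-- A group mapping monomorphically and homomorphically into a commutative group is commutative. -/
theorem isCommMonObj_of_mono {C : Type*} [Category C] [CartesianMonoidalCategory C] [BraidedCategory C] {I G : C}
    [MonObj I] [MonObj G] [IsCommMonObj G] (i : I ⟶ G) [IsMonHom i] [Mono i] : IsCommMonObj I where
  mul_comm := by
    rw [← cancel_mono i, Category.assoc, IsMonHom.mul_hom, ← BraidedCategory.braiding_naturality_assoc,
      IsCommMonObj.mul_comm]

variable {G : Over (Spec (CommRingCat.of k))} {A : Type u} [CommRing A] [HopfAlgebra k A]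

theorem finiteType_of_iso [LocallyOfFiniteType G.hom] (e : CoactBr.sp k A ≅ G) : Algebra.FiniteType k A := by
  haveI h : LocallyOfFiniteType (Spec.map (CommRingCat.ofHom (algebraMap k A))) := by
    have h' : LocallyOfFiniteType (CoactBr.sp k A).hom := by rw [← Over.w e.hom]; infer_instance
    exact h'
  exact RingHom.finiteType_algebraMap.1 ((HasRingHomProperty.Spec_iff (P := @LocallyOfFiniteType)).1 h)

theorem mk_eq_of_pt_eq_one (J : Ideal A) [J.IsHopfIdeal k]
    (h : CoactBr.pt (Ideal.Quotient.mkₐ k J) = (1 : CoactBr.sp k (A ⧸ J) ⟶ CoactBr.sp k A)) :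
    aug k A ≤ J := fun a ha => by
  rw [CoactBr.one_eq_pt] at h
  refine Ideal.Quotient.eq_zero_iff_mem.1 ?_
  have h1 := DFunLike.congr_fun (CoactBr.pt_injective h) a
  refine h1.trans ?_
  show algebraMap k (A ⧸ J) (Bialgebra.counitAlgHom k A a) = 0
  rw [show Bialgebra.counitAlgHom k A a = 0 from ha, map_zero]

theorem mono_pt_mk (J : Ideal A) : Mono (CoactBr.pt (Ideal.Quotient.mkₐ k J)) := by
  haveI : Mono (CoactBr.pt (Ideal.Quotient.mkₐ k J)).left := by
    haveI := IsClosedImmersion.spec_of_surjective (CommRingCat.ofHom (Ideal.Quotient.mk J)) Ideal.Quotient.mk_surjective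
    show Mono (Spec.map (CommRingCat.ofHom (Ideal.Quotient.mk J)))
    infer_instance
  exact Over.mono_of_mono_left _

set_option maxHeartbeats 1000000 in
/-- Bijective on homomorphisms from finite commutative groups and on geometric points implies isomorphism. -/
theorem isIso_of_finite_tests (K : Type u) [Field K] [Algebra k K] [IsAlgClosure k K]
    (G H : Over (Spec (CommRingCat.of k))) [GrpObj G] [IsCommMonObj G] [GrpObj H] [IsCommMonObj H]
    [IsAffine G.left] [IsAffine H.left] [LocallyOfFiniteType G.hom] [LocallyOfFiniteType H.hom]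
    (ψ : G ⟶ H) [IsMonHom ψ]
    (hinj : ∀ (I : Over (Spec (CommRingCat.of k))) [GrpObj I] [IsCommMonObj I] [IsFinite I.hom]
      (f g : I ⟶ G) [IsMonHom f] [IsMonHom g], f ≫ ψ = g ≫ ψ → f = g)
    (hsurj : ∀ (I : Over (Spec (CommRingCat.of k))) [GrpObj I] [IsCommMonObj I] [IsFinite I.hom]
      (h : I ⟶ H) [IsMonHom h], ∃ f : I ⟶ G, IsMonHom f ∧ f ≫ ψ = h)
    (hpts : Function.Bijective fun x : CoactBr.sp k K ⟶ G => x ≫ ψ) :
    IsIso ψ := by
  obtain ⟨A, _, _, ⟨eA⟩⟩ := HopfPts19.exists_model G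
  obtain ⟨B, _, _, ⟨eB⟩⟩ := HopfPts19.exists_model H
  let a : CoactBr.sp k A ≅ G := ⟨eA.hom.hom.hom, eA.inv.hom.hom,
    congrArg (fun q => q.hom.hom) eA.hom_inv_id, congrArg (fun q => q.hom.hom) eA.inv_hom_id⟩
  let b : CoactBr.sp k B ≅ H := ⟨eB.hom.hom.hom, eB.inv.hom.hom,
    congrArg (fun q => q.hom.hom) eB.hom_inv_id, congrArg (fun q => q.hom.hom) eB.inv_hom_id⟩
  haveI : IsMonHom a.hom := eA.hom.hom.isMonHom_hom
  haveI : IsMonHom a.inv := eA.inv.hom.isMonHom_hom
  haveI : IsMonHom b.hom := eB.hom.hom.isMonHom_hom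
  haveI : IsMonHom b.inv := eB.inv.hom.isMonHom_hom
  haveI : IsIso a.hom := a.isIso_hom
  haveI : IsIso a.inv := a.isIso_inv
  haveI : IsIso b.hom := b.isIso_hom
  haveI : IsIso b.inv := b.isIso_inv
  haveI : Mono a.hom := IsIso.mono_of_iso _
  haveI : Mono b.hom := IsIso.mono_of_iso _
  haveI := finiteType_of_iso a
  haveI := finiteType_of_iso b
  haveI : (hopfSpec (CommRingCat.of k)).Full := hopfSpec.instFull
  obtain ⟨v, hv⟩ := (hopfSpec (CommRingCat.of k)).map_surjective (eA.hom ≫ Grp.homMk ψ ≫ eB.inv)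
  let φ : B →ₐc[k] A := v.unop.hom
  have hφ : CoactBr.pt (φ : B →ₐ[k] A) = a.hom ≫ ψ ≫ b.inv := congrArg (fun q => q.hom.hom) hv
  have hψ : ψ = a.inv ≫ CoactBr.pt (φ : B →ₐ[k] A) ≫ b.hom := by simp [hφ]
  suffices hb : Function.Bijective φ by
    haveI : IsIso (CommRingCat.ofHom (φ : B →ₐ[k] A).toRingHom) :=
      (RingEquiv.ofBijective (φ : B →ₐ[k] A).toRingHom hb).toCommRingCatIso.isIso_hom
    haveI : IsIso (CoactBr.pt (φ : B →ₐ[k] A)).left :=
      inferInstanceAs (IsIso (Spec.map (CommRingCat.ofHom (φ : B →ₐ[k] A).toRingHom)))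
    haveI : IsIso (CoactBr.pt (φ : B →ₐ[k] A)) :=
      haveI : IsIso ((Over.forget _).map (CoactBr.pt (φ : B →ₐ[k] A))) := ‹_›
      isIso_of_reflects_iso _ (Over.forget _)
    rw [hψ]
    exact IsIso.comp_isIso' inferInstance (IsIso.comp_isIso' inferInstance inferInstance)
  refine bijective K φ (fun J hJ hfin hle => ?_) (fun J hJ hfin c hc => ?_) (fun x hx => ?_) fun y c hc => ?_
  · haveI := hJ
    haveI := hfin
    haveI := isFinite_sp (k := k) (A := A ⧸ J)
    haveI := mono_pt_mk (k := k) J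
    haveI : IsMonHom (CoactBr.pt (Ideal.Quotient.mkₐ k J)) := isMonHom_pt ((Bialgebra.Quotient.mkBialgHom J : A →ₐc[k] A ⧸ J))
    let i : CoactBr.sp k (A ⧸ J) ⟶ G := CoactBr.pt (Ideal.Quotient.mkₐ k J) ≫ a.hom
    haveI : Mono i := mono_comp _ _
    haveI : IsMonHom i := inferInstanceAs (IsMonHom (_ ≫ _))
    haveI : IsCommMonObj (CoactBr.sp k (A ⧸ J)) := isCommMonObj_of_mono i
    haveI : IsMonHom (1 : CoactBr.sp k (A ⧸ J) ⟶ G) :=
      inferInstanceAs (IsMonHom (toUnit (CoactBr.sp k (A ⧸ J)) ≫ η[G]))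
    have h1 : i ≫ ψ = (1 : CoactBr.sp k (A ⧸ J) ⟶ G) ≫ ψ := by
      rw [MonObj.one_comp, hψ]
      show (CoactBr.pt _ ≫ a.hom) ≫ a.inv ≫ _ = _
      rw [Category.assoc, Iso.hom_inv_id_assoc, ← Category.assoc, ← CoactBr.pt_comp]
      have : (Ideal.Quotient.mkₐ k J).comp (φ : B →ₐ[k] A) =
          (Algebra.ofId k (A ⧸ J)).comp (Bialgebra.counitAlgHom k B) := AlgHom.ext fun c => by
        have h0 := Ideal.Quotient.eq_zero_iff_mem.2 (hle (c - algebraMap k B (Coalgebra.counit (R := k) c)) (by simp))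
        rw [map_sub, AlgHomClass.commutes, map_sub, sub_eq_zero] at h0
        exact h0
      rw [this, ← CoactBr.one_eq_pt, MonObj.one_comp]
    have h2 := hinj (CoactBr.sp k (A ⧸ J)) i 1 h1
    refine mk_eq_of_pt_eq_one J ?_
    rw [← cancel_mono a.hom, MonObj.one_comp]
    exact h2
  · haveI := hJ
    haveI := hfin
    haveI := isFinite_sp (k := k) (A := B ⧸ J)
    haveI := mono_pt_mk (k := k) J
    haveI : IsMonHom (CoactBr.pt (Ideal.Quotient.mkₐ k J)) := isMonHom_pt ((Bialgebra.Quotient.mkBialgHom J : B →ₐc[k] B ⧸ J))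
    let i : CoactBr.sp k (B ⧸ J) ⟶ H := CoactBr.pt (Ideal.Quotient.mkₐ k J) ≫ b.hom
    haveI : Mono i := mono_comp _ _
    haveI : IsMonHom i := inferInstanceAs (IsMonHom (_ ≫ _))
    haveI : IsCommMonObj (CoactBr.sp k (B ⧸ J)) := isCommMonObj_of_mono i
    obtain ⟨f, -, hf⟩ := hsurj (CoactBr.sp k (B ⧸ J)) i
    obtain ⟨χ, hχ⟩ := MTRigid29.exists_pt (f ≫ a.inv)
    have h1 : χ.comp (φ : B →ₐ[k] A) = Ideal.Quotient.mkₐ k J := CoactBr.pt_injective (by
      rw [CoactBr.pt_comp, ← hχ, ← cancel_mono b.hom]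
      show ((f ≫ a.inv) ≫ CoactBr.pt _) ≫ b.hom = i
      rw [← hf, hψ]
      simp only [Category.assoc])
    refine Ideal.Quotient.eq_zero_iff_mem.1 ?_
    refine (DFunLike.congr_fun h1 c).symm.trans ?_
    show χ (φ c) = 0
    rw [hc, map_zero]
  · refine CoactBr.pt_injective ?_
    rw [← cancel_mono a.hom]
    refine hpts.1 ?_
    show (CoactBr.pt x ≫ a.hom) ≫ ψ = (CoactBr.pt _ ≫ a.hom) ≫ ψ
    rw [← CoactBr.one_eq_pt, MonObj.one_comp, MonObj.one_comp, hψ, Category.assoc, Iso.hom_inv_id_assoc,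
      ← Category.assoc, ← CoactBr.pt_comp, hx, ← CoactBr.one_eq_pt, MonObj.one_comp]
  · obtain ⟨f, hf⟩ := hpts.2 (CoactBr.pt y ≫ b.hom)
    obtain ⟨χ, hχ⟩ := MTRigid29.exists_pt (f ≫ a.inv)
    have h1 : χ.comp (φ : B →ₐ[k] A) = y := CoactBr.pt_injective (by
      rw [CoactBr.pt_comp, ← hχ, ← cancel_mono b.hom, ← hf, hψ]
      simp only [Category.assoc])
    rw [← h1, AlgHom.comp_apply]
    show χ (φ c) = 0
    rw [hc, map_zero]

end Groth.Agent.FinTestIso3
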